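import Groth.Agent.SuppDim.Alg
import Groth.Agent.Unibranch.LiftDim
import Groth.Agent.FlatModB.Basic
import Groth.Agent.QC.Support
import Groth.Agent.QC.Coherent

/-!
# Fibre dimensions of the support of a flat coherent module
-/

universe u

set_option autoImplicit false
set_option linter.style.haveILetI false
set_option backward.isDefEq.respectTransparency false

open CategoryTheory AlgebraicGeometry Topology TopologicalSpace

namespace Groth.Agent.SuppDim

open Unibranch

variable {X S : Scheme.{u}}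

/-- Chains in the support spread to every generisation of the base point. -/
theorem hasChain_support (f : X ⟶ S) [LocallyOfFiniteType f] (F : X.Modules) (hF : Coh.IsCoh F)
    (hfl : FlatMod.IsFlatOver f F) {s η : S} (hη : η ⤳ s) {k : ℕ} (hk : HasChain f (CohB1.support F) s k) :
    HasChain f (CohB1.support F) η k := by
  obtain ⟨c, hc, hcc⟩ := hk
  let z := c 0
  have hzs : f z = s := (hc 0).2
  have hchain : HasChain f (closure {z}) (f z) k := by
    refine ⟨c, fun i => ⟨?_, (hc i).2.trans hzs.symm⟩, hcc⟩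
    induction i using Fin.induction with
    | zero => exact subset_closure rfl
    | succ i ih => exact specializes_iff_mem_closure.1 ((specializes_iff_mem_closure.2 ih).trans (hcc i).1)
  obtain ⟨V, W, hV, hW, hzW, hWV, -⟩ := exists_chart_le f (U := ⊤) (x := z) trivial
  have hηV : η ∈ V := hη.mem_open V.2 (hzs ▸ hWV hzW)
  let := (f.appLE V W hWV).hom.toAlgebra
  letI := FlatModB.secModule f F W V hWV
  haveI : IsScalarTower Γ(S, V) Γ(X, W) Γ(F, W) := ⟨fun a c m => mul_smul ((f.appLE V W hWV).hom a) c m⟩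
  haveI : Algebra.FiniteType Γ(S, V) Γ(X, W) := f.finiteType_appLE hV hW hWV
  haveI : Module.Flat Γ(S, V) Γ(F, W) := (FlatModB.flat_sections_iff f F hF.1 hW hV hWV).2 fun x _ => hfl x
  haveI : Module.Finite Γ(X, W) Γ(F, W) := (QC.isCoh_iff_finite_sections.mp hF).2 ⟨W, hW⟩
  haveI := hF.1
  let n := hW.primeIdealOf ⟨z, hzW⟩
  have hn : n ∈ Module.support Γ(X, W) Γ(F, W) := (QC.mem_moduleSupport_iff (M := F) hW hzW).2 (hc 0).1
  have hpn : (hV.primeIdealOf ⟨η, hηV⟩).asIdeal ≤ n.asIdeal.under Γ(S, V) := by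
    have h1 : n.asIdeal.under Γ(S, V) = (hV.primeIdealOf ⟨f z, hWV hzW⟩).asIdeal :=
      congrArg PrimeSpectrum.asIdeal (IsAffineOpen.comap_primeIdealOf_appLE V hV W hW hWV hzW)
    rw [h1]
    exact (primeIdealOf_le_iff hV _ _).mpr (hzs ▸ hη)
  obtain ⟨t, -, ht⟩ := exists_genAt (A := Γ(S, V)) n.asIdeal
  obtain ⟨q, hqS, hqn, hqp, hgen⟩ := exists_genAt_support Γ(F, W) t n hn ht _ hpn
  let ζ := hW.fromSpec q
  have hζW : ζ ∈ W := hW.range_fromSpec.le ⟨q, rfl⟩
  have hqe : hW.primeIdealOf ⟨ζ, hζW⟩ = q :=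
    hW.fromSpec.isOpenEmbedding.injective (hW.fromSpec_primeIdealOf _)
  have hfζ : f ζ = η := by
    rw [← fromSpec_comap_appLE f hV hW hWV]
    exact (congrArg hV.fromSpec (PrimeSpectrum.ext hqp)).trans (hV.fromSpec_primeIdealOf ⟨η, hηV⟩)
  have hζS : ζ ∈ CohB1.support F := (QC.mem_moduleSupport_iff (M := F) hW hζW).1 (hqe.symm ▸ hqS)
  have h1 : k ≤ rdimIn f hW hWV ζ hζW := by
    refine le_trans (hchain.le (chainsLE_of_specializes f specializes_rfl hzW
      (chainsLE_rdimIn hV hW hWV hzW))) ?_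
    show rdim Γ(S, V) n.asIdeal ≤ rdim Γ(S, V) (hW.primeIdealOf ⟨ζ, hζW⟩).asIdeal
    rw [hqe]
    have h2 : Nat.card (ULift.{u} (Fin (rdim Γ(S, V) n.asIdeal))) = rdim Γ(S, V) n.asIdeal := by simp
    exact h2.symm.le.trans hgen.card_le
  have h3 := ((hasChain_rdimIn hV hW hWV hζW).mono Set.inter_subset_right).anti h1
  rw [hfζ] at h3
  refine h3.mono fun w hw => ?_
  exact QC.stableUnderSpecialization_support (M := F) (specializes_iff_mem_closure.2 hw) hζS

theorem topologicalKrullDim_le (f : X ⟶ S) [LocallyOfFiniteType f] (F : X.Modules) (hF : Coh.IsCoh F)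
    (hfl : FlatMod.IsFlatOver f F) {s η : S} (hη : η ⤳ s) :
    topologicalKrullDim ↥(f ⁻¹' {s} ∩ CohB1.support F) ≤
      topologicalKrullDim ↥(f ⁻¹' {η} ∩ CohB1.support F) := by
  have hcl : IsLocallyClosed (CohB1.support F) :=
    (haveI := hF.1; QC.isClosed_support (M := F) hF.2).isLocallyClosed
  rw [Set.inter_comm (f ⁻¹' {s}), Set.inter_comm (f ⁻¹' {η})]
  refine le_of_forall_natCast_le fun k hk => ?_
  rw [natCast_le_topologicalKrullDim_inter_iff f hcl] at hk ⊢
  exact hasChain_support f F hF hfl hη hk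

end Groth.Agent.SuppDim
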