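import Groth.Agent.Unibranch.Lifting
import Groth.Agent.InjFibre.RegSeq

/-!
# Generic elements at generisations in the support of a flat module
-/

universe u

set_option autoImplicit false
set_option linter.style.haveILetI false
set_option backward.isDefEq.respectTransparency false

open TensorProduct

namespace Groth.Agent.SuppDim

open Unibranch

variable {A B : Type u} [CommRing A] [CommRing B] [Algebra A B]
  (M : Type u) [AddCommGroup M] [Module A M] [Module B M] [IsScalarTower A B M] {σ : Type u} (t : σ → B)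

/-- At a point of the support the module is nonzero over any field over the residue field. -/
theorem nontrivial_tensor [Module.Finite B M] (n : PrimeSpectrum B) (hn : n ∈ Module.support B M) {F : Type u}
    [Field F] (χ : B →+* F) (hχ : RingHom.ker χ = n.asIdeal) :
    letI := χ.toAlgebra
    Nontrivial (F ⊗[B] M) := by
  letI := χ.toAlgebra
  haveI := (Module.mem_support_iff_nontrivial_residueField_tensorProduct n).1 hn
  let L := Ideal.ResidueField.lift n.asIdeal χ hχ.ge fun b hb => IsUnit.mk0 _ fun h =>
    hb (hχ.le (RingHom.mem_ker.2 h))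
  letI : Algebra n.asIdeal.ResidueField F := L.toAlgebra
  haveI : IsScalarTower B n.asIdeal.ResidueField F := IsScalarTower.of_algebraMap_eq fun b =>
    (Ideal.ResidueField.lift_algebraMap _ _ _ _ b).symm
  exact (TensorProduct.AlgebraTensorModule.cancelBaseChange B n.asIdeal.ResidueField F F M).symm.toEquiv.nontrivial

set_option maxHeartbeats 1000000 in
/-- No polynomial with a coefficient outside `p` times an element outside `n` maps `M` into `pM`. -/
theorem exists_smul_notMem [Module.Finite B M] [Module.Flat A M] (n : PrimeSpectrum B)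
    (hn : n ∈ Module.support B M)
    (ht : IsTranscendenceBasis (A ⧸ n.asIdeal.under A) fun i ↦ Ideal.Quotient.mk n.asIdeal (t i))
    (p : Ideal A) [p.IsPrime] (hp : p ≤ n.asIdeal.under A) (F₀ : MvPolynomial σ A)
    (hF₀ : F₀ ∉ p.map (MvPolynomial.C : A →+* MvPolynomial σ A)) (s : B) (hs : s ∉ n.asIdeal) :
    ¬ ∀ m : M, (MvPolynomial.aeval t F₀ * s) • m ∈ p • (⊤ : Submodule A M) := by
  classical
  intro hkill
  let P := n.asIdeal.under A
  let K := FractionRing (A ⧸ p)
  have hkerK : ∀ a : A, algebraMap A K a = 0 ↔ a ∈ p := fun a ↦ by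
    rw [IsScalarTower.algebraMap_apply A (A ⧸ p) K,
      map_eq_zero_iff _ (IsFractionRing.injective (A ⧸ p) K), Ideal.Quotient.algebraMap_eq,
      Ideal.Quotient.eq_zero_iff_mem]
  let f : Localization.AtPrime P →+* K := IsLocalization.lift (M := P.primeCompl)
    (g := algebraMap A K) fun s ↦ IsUnit.mk0 _ fun h ↦ s.2 (hp ((hkerK _).mp h))
  obtain ⟨Vs, hmem, hloc⟩ := IsLocalRing.exists_factor_valuationRing f
  let g : A →+* Vs := (f.codRestrict Vs.toSubring hmem).comp (algebraMap A (Localization.AtPrime P))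
  let := g.toAlgebra
  have hgK : ∀ a, ((algebraMap A Vs a : Vs) : K) = algebraMap A K a := fun a ↦
    IsLocalization.lift_eq _ a
  have hVp : ∀ a, algebraMap A Vs a = 0 ↔ a ∈ p := fun a => by
    rw [← hkerK, ← hgK, ZeroMemClass.coe_eq_zero]
  have hmax : (IsLocalRing.maximalIdeal Vs).comap (algebraMap A Vs) = P := by
    show (IsLocalRing.maximalIdeal Vs).comap g = P
    have : IsLocalHom (f.codRestrict Vs.toSubring hmem) := hloc
    exact (Ideal.comap_comap _ _).symm.trans
      (by rw [IsLocalRing.maximalIdeal_comap]; exact IsLocalization.AtPrime.under_maximalIdeal _ P)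
  let κV := IsLocalRing.ResidueField Vs
  have hkerκ : RingHom.ker (algebraMap A κV) = P := by
    rw [IsScalarTower.algebraMap_eq A Vs κV, ← RingHom.comap_ker,
      IsLocalRing.ResidueField.algebraMap_eq, IsLocalRing.ker_residue, hmax]
  obtain ⟨F, _, toF, χB, htoF, hkerχ, hχA, hχt⟩ := exists_genericPoint n t ht κV hkerκ
  -- the module over the field
  let gV : Vs →+* F := toF.comp (MvPolynomial.C.comp (IsLocalRing.residue Vs))
  letI : Algebra B F := χB.toAlgebra
  letI : Algebra A F := (χB.comp (algebraMap A B)).toAlgebra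
  haveI : IsScalarTower A B F := IsScalarTower.of_algebraMap_eq fun _ => rfl
  have hgVA : ∀ a, gV (algebraMap A Vs a) = algebraMap A F a := fun a => (hχA a).symm
  let W := F ⊗[B] M
  letI : Algebra Vs F := gV.toAlgebra
  haveI : IsScalarTower A Vs F := IsScalarTower.of_algebraMap_eq fun a => (hgVA a).symm
  let ψ : M →ₗ[A] W := ((TensorProduct.mk B F M) 1).restrictScalars A
  let Ψ : Vs ⊗[A] M →ₗ[A] W := TensorProduct.lift (LinearMap.mk₂ A (fun (v : Vs) (m : M) => (gV v) • ψ m)
    (fun v v' m => by rw [map_add, add_smul]) (fun a v m => by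
      rw [Algebra.smul_def, map_mul, mul_smul, hgVA, algebraMap_smul])
    (fun v m m' => by rw [map_add, smul_add])
    (fun a v m => by rw [map_smul, smul_comm]))
  have hΨ : ∀ (v : Vs) (x : Vs ⊗[A] M), Ψ (v • x) = gV v • Ψ x := fun v x => by
    induction x using TensorProduct.induction_on with
    | zero => simp
    | tmul w m =>
      rw [TensorProduct.smul_tmul']
      show gV (v • w) • ψ m = gV v • gV w • ψ m
      rw [smul_eq_mul, map_mul, mul_smul]
    | add x y hx hy => rw [smul_add, map_add, map_add, smul_add, hx, hy]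
  -- the action of polynomials
  let mon : (σ →₀ ℕ) → B := fun d => d.prod fun i k => t i ^ k
  let L : M → (MvPolynomial σ Vs →ₗ[Vs] Vs ⊗[A] M) := fun m =>
    (MvPolynomial.basisMonomials σ Vs).constr Vs fun d => (1 : Vs) ⊗ₜ[A] (mon d • m)
  have hL : ∀ (m : M) (d : σ →₀ ℕ) (a : Vs), L m (MvPolynomial.monomial d a) = a ⊗ₜ[A] (mon d • m) := fun m d a => by
    rw [show MvPolynomial.monomial d a = a • (MvPolynomial.basisMonomials σ Vs) d from by
      rw [MvPolynomial.coe_basisMonomials, MvPolynomial.smul_monomial, smul_eq_mul, mul_one],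
      map_smul, Module.Basis.constr_basis, TensorProduct.smul_tmul', smul_eq_mul, mul_one]
  have hLmap : ∀ (m : M) (G : MvPolynomial σ A),
      L m (MvPolynomial.map (algebraMap A Vs) G) = (1 : Vs) ⊗ₜ[A] (MvPolynomial.aeval t G • m) := fun m G => by
    induction G using MvPolynomial.induction_on' with
    | monomial d a =>
      rw [MvPolynomial.map_monomial, hL, MvPolynomial.aeval_monomial, mul_smul,
        algebraMap_smul, Algebra.algebraMap_eq_smul_one, TensorProduct.smul_tmul]
    | add G G' hG hG' => rw [map_add, map_add, map_add, add_smul, hG, hG', TensorProduct.tmul_add]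
  have hΨL : ∀ (m : M) (G : MvPolynomial σ Vs),
      Ψ (L m G) = toF (MvPolynomial.map (IsLocalRing.residue Vs) G) • ψ m := fun m G => by
    induction G using MvPolynomial.induction_on' with
    | monomial d a =>
      rw [hL, MvPolynomial.map_monomial, MvPolynomial.monomial_eq, map_mul, map_finsuppProd]
      show gV a • ψ (mon d • m) = _
      have h1 : ψ (mon d • m) = χB (mon d) • ψ m := by
        show (1 : F) ⊗ₜ[B] (mon d • m) = χB (mon d) • ((1 : F) ⊗ₜ[B] m)
        rw [← TensorProduct.smul_tmul, Algebra.smul_def, TensorProduct.smul_tmul', smul_eq_mul]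
        rfl
      rw [h1, smul_smul]
      refine congrArg (· • ψ m) ?_
      show toF (MvPolynomial.C (IsLocalRing.residue Vs a)) * χB (d.prod fun i k => t i ^ k) = _
      rw [map_finsuppProd]
      simp only [map_pow, hχt]
      rfl
    | add G G' hG hG' => rw [map_add, map_add, map_add, map_add, add_smul, hG, hG']
  -- the polynomial with a unit coefficient
  let G := MvPolynomial.map (algebraMap A Vs) F₀
  have hG : G ≠ 0 := fun h0 => hF₀ (MvPolynomial.mem_map_C_iff.2 fun d => (hVp _).1 (by
    rw [← MvPolynomial.coeff_map]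
    change G.coeff d = 0
    rw [h0, MvPolynomial.coeff_zero]))
  obtain ⟨m₀, hm₀, hdvd⟩ := exists_dvd_forall G.support (MvPolynomial.support_nonempty.mpr hG)
    fun m ↦ G.coeff m
  let c := G.coeff m₀
  have hc : c ≠ 0 := MvPolynomial.mem_support_iff.mp hm₀
  obtain ⟨G₁, hG₁⟩ : MvPolynomial.C c ∣ G := (MvPolynomial.C_dvd_iff_dvd_coeff c G).mpr fun i ↦ by
    by_cases hi : i ∈ G.support
    · exact hdvd i hi
    · rw [MvPolynomial.notMem_support_iff.mp hi]; exact dvd_zero _
  have hG₁m : G₁.coeff m₀ = 1 := by
    have := congrArg (MvPolynomial.coeff m₀) hG₁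
    rw [MvPolynomial.coeff_C_mul] at this
    exact mul_left_cancel₀ hc ((show c = c * G₁.coeff m₀ from this).symm.trans (mul_one c).symm)
  have hne : toF (MvPolynomial.map (IsLocalRing.residue Vs) G₁) ≠ 0 := fun h0 => by
    rw [map_eq_zero_iff _ htoF] at h0
    have h4 := congrArg (MvPolynomial.coeff m₀) h0
    rw [MvPolynomial.coeff_map, hG₁m, map_one, MvPolynomial.coeff_zero] at h4
    exact one_ne_zero h4
  -- everything vanishes in the fibre
  have hzero : ∀ m : M, ψ m = 0 := fun m => by
    have h1 : L (s • m) G = 0 := by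
      rw [hLmap, ← mul_smul]
      have hz : ∀ x ∈ p • (⊤ : Submodule A M), (1 : Vs) ⊗ₜ[A] x = 0 := fun x hx => by
        refine Submodule.smul_induction_on hx (fun a ha y _ => ?_) fun x y hx hy => by rw [TensorProduct.tmul_add, hx, hy, add_zero]
        rw [← TensorProduct.smul_tmul, Algebra.smul_def, (hVp a).2 ha, zero_mul, TensorProduct.zero_tmul]
      exact hz _ (hkill m)
    rw [hG₁, ← MvPolynomial.smul_eq_C_mul, map_smul] at h1
    have h2 : L (s • m) G₁ = 0 :=
      (Module.Flat.isSMulRegular_of_nonZeroDivisors (mem_nonZeroDivisors_of_ne_zero hc)) (h1.trans (smul_zero c).symm)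
    have h3 := hΨL (s • m) G₁
    rw [h2, map_zero] at h3
    have h4 : ψ (s • m) = χB s • ψ m := by
      show (1 : F) ⊗ₜ[B] (s • m) = χB s • ((1 : F) ⊗ₜ[B] m)
      rw [← TensorProduct.smul_tmul, Algebra.smul_def, TensorProduct.smul_tmul', smul_eq_mul]
      rfl
    rw [h4, smul_smul] at h3
    refine (smul_eq_zero.1 h3.symm).resolve_left (mul_ne_zero hne fun h0 => hs ?_)
    rw [← hkerχ]
    exact RingHom.mem_ker.2 h0
  have hW : Subsingleton W := subsingleton_of_forall_eq 0 fun x => by
    induction x using TensorProduct.induction_on with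
    | zero => rfl
    | tmul a m =>
      have : a ⊗ₜ[B] m = a • ((1 : F) ⊗ₜ[B] m) := by rw [TensorProduct.smul_tmul', smul_eq_mul, mul_one]
      rw [this]
      show a • ψ m = 0
      rw [hzero, smul_zero]
    | add x y hx hy => rw [hx, hy, add_zero]
  haveI : Nontrivial W := nontrivial_tensor M n hn χB hkerχ
  exact not_subsingleton W hW

/-- A transcendence basis at a point of the support stays generic at a generisation in the support. -/
theorem exists_genAt_support [Module.Finite B M] [Module.Flat A M] [Finite σ] (n : PrimeSpectrum B)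
    (hn : n ∈ Module.support B M)
    (ht : IsTranscendenceBasis (A ⧸ n.asIdeal.under A) fun i ↦ Ideal.Quotient.mk n.asIdeal (t i))
    (p : Ideal A) [p.IsPrime] (hp : p ≤ n.asIdeal.under A) :
    ∃ q : PrimeSpectrum B, q ∈ Module.support B M ∧ q.asIdeal ≤ n.asIdeal ∧ q.asIdeal.under A = p ∧
      GenAt (A := A) t q.asIdeal := by
  let pC : Ideal (MvPolynomial σ A) := p.map MvPolynomial.C
  haveI : pC.IsPrime := by
    show (p.map (MvPolynomial.C : A →+* MvPolynomial σ A)).IsPrime
    rw [← Ideal.mk_ker (I := p), ← MvPolynomial.ker_map]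
    exact RingHom.ker_isPrime _
  let T : Submonoid B := pC.primeCompl.map (MvPolynomial.aeval (R := A) t) ⊔ n.asIdeal.primeCompl
  let N := M ⧸ ((p • (⊤ : Submodule A M)))
  let J : Ideal B :=
    { carrier := {b | ∀ m : M, b • m ∈ p • (⊤ : Submodule A M)}
      add_mem' := fun ha hb m => by rw [add_smul]; exact add_mem (ha m) (hb m)
      zero_mem' := fun m => by rw [zero_smul]; exact zero_mem _
      smul_mem' := fun c b hb m => by rw [smul_eq_mul, mul_comm, mul_smul]; exact hb _ }
  have hdisj : Disjoint (J : Set B) T := by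
    rw [Set.disjoint_left]
    intro b hb hbT
    obtain ⟨_, ⟨F₀, hF₀, rfl⟩, s, hs, rfl⟩ := Submonoid.mem_sup.1 (SetLike.mem_coe.1 hbT)
    exact exists_smul_notMem M t n hn ht p hp F₀ hF₀ s hs fun m => hb m
  obtain ⟨q, hq, hJq, hqT⟩ := Ideal.exists_le_prime_disjoint J T hdisj
  have hqn : q ≤ n.asIdeal := fun b hb => by
    by_contra hbn
    exact Set.disjoint_left.1 hqT hb (Submonoid.mem_sup_right hbn)
  have hqC : q.comap (MvPolynomial.aeval (R := A) t).toRingHom = pC := by
    refine le_antisymm (fun F₀ hF₀ => ?_) (Ideal.map_le_iff_le_comap.2 fun a ha => ?_)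
    · by_contra hF
      exact Set.disjoint_left.1 hqT hF₀ (Submonoid.mem_sup_left ⟨F₀, hF, rfl⟩)
    · refine hJq fun m => ?_
      change (MvPolynomial.aeval (R := A) t (MvPolynomial.C a)) • m ∈ _
      rw [MvPolynomial.aeval_C, algebraMap_smul]
      exact Submodule.smul_mem_smul ha trivial
  have hqp : q.under A = p := by
    have h1 := congrArg (Ideal.comap (MvPolynomial.C : A →+* MvPolynomial σ A)) hqC
    rw [Ideal.comap_comap, AlgHom.toRingHom_eq_coe, ← MvPolynomial.algebraMap_eq, AlgHom.comp_algebraMap] at h1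
    exact h1.trans (le_antisymm (fun x hx ↦ by simpa using MvPolynomial.mem_map_C_iff.mp hx 0) Ideal.le_comap_map)
  refine ⟨⟨q, hq⟩, ?_, hqn, hqp, ?_⟩
  · rw [Module.support_eq_zeroLocus, PrimeSpectrum.mem_zeroLocus]
    exact fun b hb => hJq fun m => by rw [Module.mem_annihilator.1 hb m]; exact zero_mem _
  · rw [genAt_iff_comap, hqp, hqC]

end Groth.Agent.SuppDim
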